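import Mathlib
import Cfsg.Agent.Base
import Cfsg.Agent.Lib.Block.DefOne
import Cfsg.Agent.Lib.Block.Column
import Cfsg.Agent.Lib.FGS.CyclicAux

/-! Exceptional character theory for blocks with cyclic defect group. -/

set_option autoImplicit false
set_option linter.unusedSectionVars false
set_option linter.style.haveILetI false

open Cfsg H33 H84
open H35 hiding cj
open H86 (Cen Nor cs)
open scoped ComplexConjugate

namespace H35C

section grp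
variable {G : Type*} [Group G] [Finite G] {p : ℕ} [hp : Fact p.Prime] {Z : Subgroup G} {g : G}

/-- the `p`-part of `g` lies over `Z` -/
def Ov (p : ℕ) {G : Type*} [Group G] (Z : Subgroup G) (g : G) : Prop :=
  Z ≤ Subgroup.zpowers (pPart p g)

theorem Ov.cen_le (h : Ov p Z g) : Subgroup.centralizer ({pPart p g} : Set G) ≤ Cen Z := by
  intro x hx
  refine H86.Cen_anti h (H86.mem_Cen_zpowers.mpr ?_)
  exact Subgroup.mem_centralizer_iff.mp hx _ rfl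

theorem Ov.cen_le' (h : Ov p Z g) : Subgroup.centralizer ({g} : Set G) ≤ Cen Z :=
  (centralizer_le_pPart p g).trans h.cen_le

theorem Ov.mem_Cen (h : Ov p Z g) : g ∈ Cen Z := h.cen_le (mem_centralizer_pPart p g)

theorem Ov.dvd (h : Ov p Z g) (hZ : Z ≠ ⊥) : p ∣ orderOf g := by
  by_contra hg
  rw [Ov, pPart_eq_one hg, Subgroup.zpowers_one_eq_bot] at h
  exact hZ (le_bot_iff.mp h)

theorem Ov.cs (h : Ov p Z g) (y : G) : Ov p (cs y Z) (y * g * y⁻¹) := by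
  rw [Ov, pPart_conj, ← H86.cs_zpowers]
  exact H86.cs_mono y h

theorem Ov.mem_Nor (h : Ov p Z g) {y : G} (h' : Ov p Z (y * g * y⁻¹)) : y ∈ Nor Z :=
  H86.mem_Nor_iff_cs.mpr (H80.eq_of_card_eq_of_le_isCyclic inferInstance (h.cs y) h'
    (H86.card_cs y Z))

theorem Ov.conj (h : Ov p Z g) {n : G} (hn : n ∈ Nor Z) : Ov p Z (n * g * n⁻¹) := by
  have := h.cs n
  rwa [H86.mem_Nor_iff_cs.mp hn] at this

theorem Ov.inv (h : Ov p Z g) : Ov p Z g⁻¹ := by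
  rw [Ov, pPart_inv, Subgroup.zpowers_inv]; exact h

end grp

theorem sum_comp_of_card {N Y : Type*} [Fintype N] [DecidableEq Y] (f : N → Y) (s : Finset Y)
    (m : ℕ) (hs : ∀ y, y ∈ s ↔ ∃ n, f n = y) (hm : ∀ n, Nat.card {x // f x = f n} = m)
    (F : Y → ℂ) : ∑ n, F (f n) = m * ∑ y ∈ s, F y := by
  rw [Finset.sum_comp F f, Finset.mul_sum]
  refine Finset.sum_congr ?_ ?_
  · ext y; simp [hs]
  · intro y hy
    obtain ⟨n, rfl⟩ := (hs y).mp hy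
    rw [nsmul_eq_mul, ← hm n, Nat.card_eq_fintype_card, Fintype.card_subtype]

theorem card_fiber_of_iff {N Y : Type*} [Group N] (f : N → Y) (T : Subgroup N) (m : N)
    (h : ∀ n, f n = f m ↔ n * m⁻¹ ∈ T) : Nat.card {x // f x = f m} = Nat.card T :=
  Nat.card_congr ((Equiv.mulRight m⁻¹).subtypeEquiv h)

theorem classInner_congr_left {G : Type*} [Group G] [Fintype G] {f f' g : G → ℂ}
    (h : ∀ x, g x ≠ 0 → f x = f' x) : classInner f g = classInner f' g := by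
  rw [H6.classInner_def, H6.classInner_def]
  congr 1
  refine Finset.sum_congr rfl fun x _ => ?_
  by_cases hx : g x = 0
  · rw [hx, map_zero, mul_zero, mul_zero]
  · rw [h x hx]

variable {G : Type*} [Group G] [Fintype G] {p : ℕ} [hp : Fact p.Prime] {Z : Subgroup G}
  {M : Ideal AlgInt} [M.IsMaximal]

theorem indFun_ov [Fintype (Nor Z)] {f : Cen Z → ℂ}
    (hf : ∀ h : Cen Z, p ∣ orderOf h → f h ≠ 0 → Ov p Z (h : G)) (hZ : Z ≠ ⊥) {c : Cen Z}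
    (hc : Ov p Z (c : G)) :
    (Nat.card (Cen Z) : ℂ) * indFun (Cen Z) f c = ∑ n : Nor Z, f (cE n c) := by
  classical
  rw [H7.indFun_apply', ← mul_assoc, mul_inv_cancel₀ H6.card_ne_zero, one_mul,
    ← Finset.sum_filter_add_sum_filter_not Finset.univ (· ∈ Nor Z), Finset.sum_eq_zero
      (s := Finset.univ.filter (¬ · ∈ Nor Z)), add_zero,
    Finset.sum_subtype (p := (· ∈ Nor Z)) _ (by simp)]
  · exact Finset.sum_congr rfl fun n _ => H7.extendByZero_of_mem _ _ _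
  · intro g hg
    by_cases h : g * c * g⁻¹ ∈ Cen Z
    · rw [H7.extendByZero_of_mem _ _ h]
      by_contra h0
      refine (Finset.mem_filter.mp hg).2 (hc.mem_Nor (hf _ ?_ h0))
      rw [← Subgroup.orderOf_coe, orderOf_conj]
      exact hc.dvd hZ
    · exact H7.extendByZero_of_not_mem _ _ h

theorem indFun_cjc (n : Nor Z) (ξ : IrrCharacter (Cen Z)) :
    indFun (Cen Z) (cjc n ξ) = indFun (Cen Z) ξ :=
  H7.indFun_conj_subgroup (Cen Z) (Cen Z) n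
    (fun k => ⟨conj_mem_Cen n.2, fun h => by simpa [mul_assoc] using conj_mem_Cen (inv_mem n.2) h⟩)
    ξ

theorem image_cjc_mul (n m : Nor Z) (c : Set (IrrCharacter (Cen Z))) :
    cjc (n * m) '' c = cjc m '' (cjc n '' c) := by
  rw [Set.image_image]; exact Set.image_congr fun ξ _ => cjc_mul n m ξ

theorem image_cjc_one (c : Set (IrrCharacter (Cen Z))) : cjc (1 : Nor Z) '' c = c := by
  rw [Set.image_congr fun ξ _ => cjc_one ξ, Set.image_id']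

theorem sum_bset_image_cjc {A : Type*} [AddCommMonoid A] (n : Nor Z)
    (c : Set (IrrCharacter (Cen Z))) (F : IrrCharacter (Cen Z) → A) :
    ∑ ξ ∈ bset (cjc n '' c), F ξ = ∑ ξ ∈ bset c, F (cjc n ξ) := by
  symm
  refine Finset.sum_bij (fun ξ _ => cjc n ξ) (fun ξ h => mem_bset.mpr ⟨ξ, mem_bset.mp h, rfl⟩)
    (fun a _ b _ h => cjc_injective n h) (fun ψ h => ?_) fun _ _ => rfl
  obtain ⟨ξ, h1, rfl⟩ := mem_bset.mp h
  exact ⟨ξ, mem_bset.mpr h1, rfl⟩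

/-- local data for a block with cyclic defect group -/
structure CD (p : ℕ) (M : Ideal AlgInt) {G : Type*} [Group G] (Z : Subgroup G)
    (B : Set (IrrCharacter G)) (c : Set (IrrCharacter (Cen Z))) (T : Subgroup (Nor Z))
    (ζ : IrrCharacter (Cen Z)) (e : ℕ) : Prop where
  pgrp : IsPGroup p Z
  ne : Z ≠ ⊥
  ab : Z ≤ Cen Z
  ind : IsInducedBlock M (Cen Z) c B
  suppB : ∀ χ ∈ B, ∀ g : G, p ∣ orderOf g → (χ : G → ℂ) g ≠ 0 → ∃ a : G, Ov p Z (a * g * a⁻¹)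
  suppc : ∀ ξ ∈ c, ∀ h : Cen Z, p ∣ orderOf h → (ξ : Cen Z → ℂ) h ≠ 0 → Ov p Z (h : G)
  root : ∀ c', IsInducedBlock M (Cen Z) c' B → ∃ n : Nor Z, c' = cjc n '' c
  reg : ∀ ξ ∈ c, ∀ h : Cen Z, ¬ p ∣ orderOf h → (ξ : Cen Z → ℂ) h = (ζ : Cen Z → ℂ) h
  memT : ∀ n : Nor Z, n ∈ T ↔ cjc n '' c = c
  mem : ζ ∈ c
  fix : ∀ n ∈ T, cjc n ζ = ζ
  free : ∀ n ∈ T, ∀ ξ ∈ c, ξ ≠ ζ → cjc n ξ = ξ → (n : G) ∈ Cen Z
  cardT : Nat.card T = Nat.card (Cen Z) * e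

namespace CD
variable {B : Set (IrrCharacter G)} {c : Set (IrrCharacter (Cen Z))} {T : Subgroup (Nor Z)}
  {ζ : IrrCharacter (Cen Z)} {e : ℕ} (h : CD p M Z B c T ζ e)
include h

theorem e_pos : 0 < e := by
  have := Nat.card_pos (α := T)
  rw [h.cardT] at this
  exact Nat.pos_of_mul_pos_left this

theorem e_ne_zero : (e : ℂ) ≠ 0 := Nat.cast_ne_zero.mpr h.e_pos.ne'

theorem cjc_mem {n : Nor Z} (hn : n ∈ T) {ξ : IrrCharacter (Cen Z)} (hξ : ξ ∈ c) : cjc n ξ ∈ c :=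
  (h.memT n).mp hn ▸ ⟨ξ, hξ, rfl⟩

theorem mem_T {n : Nor Z} {ξ : IrrCharacter (Cen Z)} (hξ : ξ ∈ c) (hn : cjc n ξ ∈ c) : n ∈ T :=
  (h.memT n).mpr (H33.block_eq_of_mem (isInducedBlock_cjc h.ind n).1 h.ind.1 ⟨ξ, hξ, rfl⟩ hn)

theorem cjc_ne {n : Nor Z} {ξ : IrrCharacter (Cen Z)} (hξ : ξ ∈ c) (h1 : ξ ≠ ζ) : cjc n ξ ≠ ζ :=
  fun e => h1 (cjc_injective n (e.trans (h.fix n (h.mem_T hξ (e ▸ h.mem))).symm))

theorem inert_eq {ξ : IrrCharacter (Cen Z)} (hξ : ξ ∈ c) (h1 : ξ ≠ ζ) :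
    inert ξ = (Cen Z).subgroupOf (Nor Z) :=
  le_antisymm (fun n hn => h.free n (h.mem_T hξ (by rw [mem_inert.mp hn]; exact hξ)) ξ hξ h1 hn)
    (Cen_le_inert ξ)

theorem card_fiber {ξ : IrrCharacter (Cen Z)} (hξ : ξ ∈ c) (h1 : ξ ≠ ζ) (m : Nor Z) :
    Nat.card {n : Nor Z // cjc n ξ = cjc m ξ} = Nat.card (Cen Z) := by
  rw [card_fiber_of_iff (fun n => cjc n ξ) (inert ξ) m fun n => cjc_eq_iff, h.inert_eq hξ h1,
    Nat.card_congr (Subgroup.subgroupOfEquivOfLe (H86.Cen_le_Nor Z)).toEquiv]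

theorem sum_sing [Fintype (Cen Z)] (hM : IsPModular p M) {x : Cen Z} (hx : p ∣ orderOf x) :
    ∑ ξ ∈ bset c, (ξ : Cen Z → ℂ) x = 0 := by
  have h1 := col_eq_zero_of_reg hM h.ind.1 hx (h := 1) not_dvd_orderOf_one
  rw [Finset.sum_congr rfl fun ξ hξ => by rw [h.reg ξ (mem_bset.mp hξ) 1 not_dvd_orderOf_one],
    ← Finset.sum_mul] at h1
  exact (mul_eq_zero.mp h1).resolve_right ((map_ne_zero _).mpr (H33.irr_one_ne_zero ζ))

theorem sum_ind_sing (hM : IsPModular p M) {g : G} (hg : p ∣ orderOf g) :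
    ∑ ξ ∈ bset c, indFun (Cen Z) ξ g = 0 := by
  classical
  rw [← Finset.sum_apply, ← H7.indFun_sum]
  refine H7.indFun_eq_zero _ _ _ fun x hx => ?_
  rw [Finset.sum_apply]
  exact h.sum_sing hM (by rwa [← Subgroup.orderOf_coe, orderOf_conj'])

theorem ind_reg {ξ : IrrCharacter (Cen Z)} (hξ : ξ ∈ c) {g : G} (hg : ¬ p ∣ orderOf g) :
    indFun (Cen Z) ξ g = indFun (Cen Z) ζ g := by
  rw [← sub_eq_zero, ← Pi.sub_apply, ← H7.indFun_sub]
  refine H7.indFun_eq_zero _ _ _ fun x hx => ?_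
  rw [Pi.sub_apply, h.reg ξ hξ _ (by rwa [← Subgroup.orderOf_coe, orderOf_conj']), sub_self]

theorem exists_ov_of_ind {ξ : IrrCharacter (Cen Z)} (hξ : ξ ∈ c) {g : G} (hg : p ∣ orderOf g)
    (h0 : indFun (Cen Z) ξ g ≠ 0) : ∃ a : G, Ov p Z (a * g * a⁻¹) := by
  by_contra hcon
  refine h0 (H7.indFun_eq_zero _ _ _ fun x hx => ?_)
  by_contra h1
  refine hcon ⟨x⁻¹, ?_⟩
  rw [inv_inv]
  exact h.suppc ξ hξ ⟨_, hx⟩ (by rwa [← Subgroup.orderOf_coe, orderOf_conj']) h1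

theorem ind_ov [Fintype (Nor Z)] {ξ : IrrCharacter (Cen Z)} (hξ : ξ ∈ c) {x : Cen Z}
    (hx : Ov p Z (x : G)) :
    (Nat.card (Cen Z) : ℂ) * indFun (Cen Z) ξ x = ∑ n : Nor Z, (cjc n ξ : Cen Z → ℂ) x :=
  indFun_ov (h.suppc ξ hξ) h.ne hx

theorem sum_image [Fintype (Nor Z)] (F : Set (IrrCharacter (Cen Z)) → ℂ) :
    ∑ n : Nor Z, F (cjc n '' c) = Nat.card T * ∑ c' ∈ indBlocks M (Cen Z) B, F c' := by
  classical
  refine sum_comp_of_card (fun n : Nor Z => cjc n '' c) _ _ (fun c' => ?_) (fun m => ?_) F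
  · rw [mem_indBlocks]
    exact ⟨fun h1 => (h.root c' h1).imp fun _ => Eq.symm, fun ⟨n, e⟩ =>
      e ▸ isInducedBlock_cjc h.ind n⟩
  · refine card_fiber_of_iff _ T m fun n => ?_
    rw [h.memT, image_cjc_mul]
    constructor
    · intro e; rw [e, ← image_cjc_mul, mul_inv_cancel, image_cjc_one]
    · intro e
      have := congrArg (cjc m '' ·) e
      simpa only [← image_cjc_mul, inv_mul_cancel, inv_mul_cancel_right] using this

/-- values on `p`-singular elements -/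
theorem mul_irr_sing (hM : IsPModular p M) {χ : IrrCharacter G} (hχ : χ ∈ B) {g : G}
    (hg : p ∣ orderOf g) : (e : ℂ) * (χ : G → ℂ) g =
      ∑ ξ ∈ bset c, classInner (χ : G → ℂ) (indFun (Cen Z) ξ) * indFun (Cen Z) ξ g := by
  classical
  by_cases hov : ∃ a : G, Ov p Z (a * g * a⁻¹)
  swap
  · rw [by_contra fun h0 => hov (h.suppB χ hχ g hg h0), mul_zero, eq_comm]
    refine Finset.sum_eq_zero fun ξ hξ => ?_
    rw [by_contra fun h0 => hov (h.exists_ov_of_ind (mem_bset.mp hξ) hg h0), mul_zero]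
  obtain ⟨a, ha⟩ := hov
  rw [← irr_class χ g a]
  simp only [fun ξ : IrrCharacter (Cen Z) => (H7.isClassFunction_indFun (Cen Z) ξ g a).symm]
  change _ * (χ : G → ℂ) ((⟨_, ha.mem_Cen⟩ : Cen Z) : G) =
    ∑ ξ ∈ bset c, _ * indFun (Cen Z) ξ ((⟨_, ha.mem_Cen⟩ : Cen Z) : G)
  have hx : Ov p Z ((⟨_, ha.mem_Cen⟩ : Cen Z) : G) := ha
  generalize (⟨_, ha.mem_Cen⟩ : Cen Z) = x at hx ⊢
  have h1 : (χ : G → ℂ) x =
      ∑ c' ∈ indBlocks M (Cen Z) B, blockPart c' (fun k : Cen Z => (χ : G → ℂ) k) x := by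
    have := congrFun (sum_blocks_blockPart (M := M)
      (H7.isClassFunction_res (irr_class χ) (Cen Z))) x
    rw [← this, Finset.sum_apply]
    symm
    refine Finset.sum_subset (Finset.filter_subset _ _) fun c' hc' hn => ?_
    obtain ⟨B', hB'⟩ := H34.exists_isInducedBlock hM h.pgrp h.ab le_rfl (H86.Cen_le_Nor Z)
      (mem_blocks.mp hc')
    refine H34.blockPart_res_eq_zero hM hB' x hx.cen_le fun h2 => hn (mem_indBlocks.mpr ?_)
    rwa [H33.block_eq_of_mem h.ind.2.1 hB'.2.1 hχ h2]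
  apply mul_left_cancel₀ (H6.card_ne_zero (G := Cen Z))
  rw [← mul_assoc, ← Nat.cast_mul, ← h.cardT, h1, ← h.sum_image, Finset.mul_sum]
  simp only [blockPart_apply, sum_bset_image_cjc]
  rw [Finset.sum_comm]
  refine Finset.sum_congr rfl fun ξ hξ => ?_
  rw [mul_left_comm, h.ind_ov (mem_bset.mp hξ) hx, Finset.mul_sum]
  refine Finset.sum_congr rfl fun n _ => ?_
  rw [inner_res_cjc (irr_class χ), H7.classInner_indFun_right _ _ (irr_class χ)]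

omit h in
/-- the generalized characters `(ξ - ζ)^G` -/
noncomputable def phi (ζ ξ : IrrCharacter (Cen Z)) : G → ℂ := indFun (Cen Z) ξ - indFun (Cen Z) ζ

omit h in
theorem isGen_phi (ξ : IrrCharacter (Cen Z)) : IsGeneralizedCharacter G (phi ζ ξ) :=
  ⟨_, _, H7.isCharacter_indFun _ (irr_char _), H7.isCharacter_indFun _ (irr_char _), rfl⟩

omit h in
theorem isClassFunction_phi (ξ : IrrCharacter (Cen Z)) : IsClassFunction G (phi ζ ξ) :=
  H6.isClassFunction_sub (H7.isClassFunction_indFun _ _) (H7.isClassFunction_indFun _ _)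

omit h in
theorem phi_eq (ξ : IrrCharacter (Cen Z)) :
    phi ζ ξ = indFun (Cen Z) ((ξ : Cen Z → ℂ) - ζ) := by rw [H7.indFun_sub]; rfl

omit h in
theorem phi_cjc (n : Nor Z) (ξ : IrrCharacter (Cen Z)) : phi ζ (cjc n ξ) = phi ζ ξ := by
  rw [phi, indFun_cjc, phi]

theorem phi_of_reg {ξ : IrrCharacter (Cen Z)} (hξ : ξ ∈ c) {g : G} (hg : ¬ p ∣ orderOf g) :
    phi ζ ξ g = 0 := by rw [phi, Pi.sub_apply, h.ind_reg hξ hg, sub_self]

theorem ov_of_sub {ξ : IrrCharacter (Cen Z)} (hξ : ξ ∈ c) {x : Cen Z}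
    (hx : ((ξ : Cen Z → ℂ) - (ζ : Cen Z → ℂ)) x ≠ 0) : Ov p Z (x : G) := by
  rw [Pi.sub_apply, sub_ne_zero] at hx
  have h1 : p ∣ orderOf x := by_contra fun h1 => hx (h.reg ξ hξ x h1)
  by_cases h2 : (ξ : Cen Z → ℂ) x = 0
  · exact h.suppc ζ h.mem x h1 (h2 ▸ hx.symm)
  · exact h.suppc ξ hξ x h1 h2

theorem inner_phi_of_not_mem (hM : IsPModular p M) {χ : IrrCharacter G} (hχ : χ ∉ B)
    {ξ : IrrCharacter (Cen Z)} (hξ : ξ ∈ c) : classInner (χ : G → ℂ) (phi ζ ξ) = 0 := by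
  classical
  rw [phi_eq, H7.classInner_indFun_right _ _ (irr_class χ), H6.classInner_sub_right,
    ← inner_blockPart_of_mem _ hξ, ← inner_blockPart_of_mem _ h.mem,
    ← H6.classInner_sub_right, classInner_congr_left (f' := 0), H6.classInner_zero_left]
  exact fun x hx => H34.blockPart_res_eq_zero hM h.ind x (h.ov_of_sub hξ hx).cen_le hχ

theorem inner_phi_phi {ξ ξ' : IrrCharacter (Cen Z)} (hξ : ξ ∈ c) (h1 : ξ ≠ ζ) (hξ' : ξ' ∈ c)
    (h1' : ξ' ≠ ζ) [Decidable (∃ n, cjc n ξ = ξ')] :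
    classInner (phi ζ ξ) (phi ζ ξ') = e + if ∃ n, cjc n ξ = ξ' then 1 else 0 := by
  classical
  apply mul_left_cancel₀ (H6.card_ne_zero (G := Cen Z))
  rw [phi_eq ξ', H7.classInner_indFun_right _ _ (isClassFunction_phi ξ),
    ← H6.classInner_smul_left, classInner_congr_left
      (f' := ∑ n : Nor Z, ((cjc n ξ : Cen Z → ℂ) - (cjc n ζ : Cen Z → ℂ))), H6.classInner_sum_left]
  swap
  · intro x hx
    have h2 := h.ov_of_sub hξ' hx
    rw [Pi.smul_apply, smul_eq_mul, Finset.sum_apply, phi, Pi.sub_apply, mul_sub, h.ind_ov hξ h2,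
      h.ind_ov h.mem h2, ← Finset.sum_sub_distrib]
    rfl
  have h3 : ∀ n : Nor Z, classInner ((cjc n ξ : Cen Z → ℂ) - (cjc n ζ : Cen Z → ℂ))
      ((ξ' : Cen Z → ℂ) - (ζ : Cen Z → ℂ)) =
      (if n ∈ T then 1 else 0) + if cjc n ξ = ξ' then 1 else 0 := by
    intro n
    have e1 : ¬ cjc n ζ = ξ' := fun e =>
      h1' (e.symm.trans (h.fix n (h.mem_T h.mem (e ▸ hξ'))))
    have e2 : cjc n ζ = ζ ↔ n ∈ T := ⟨fun e => h.mem_T h.mem (e.symm ▸ h.mem), h.fix n⟩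
    simp only [H6.classInner_sub_left, H6.classInner_sub_right, H6.irr_inner', e1, e2,
      h.cjc_ne hξ h1, if_false]
    ring
  simp only [h3, Finset.sum_add_distrib, Finset.sum_boole]
  rw [← Fintype.card_subtype, ← Fintype.card_subtype, ← Nat.card_eq_fintype_card,
    ← Nat.card_eq_fintype_card, mul_add, ← Nat.cast_mul, ← h.cardT]
  congr 1
  split_ifs with hk
  · obtain ⟨m, rfl⟩ := hk
    rw [h.card_fiber hξ h1, mul_one]
  · rw [mul_zero, Nat.cast_eq_zero, Nat.card_eq_zero]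
    exact Or.inl ⟨fun n => hk ⟨n.1, n.2⟩⟩

theorem mul_irr_sing' [DecidableEq (IrrCharacter (Cen Z))] (hM : IsPModular p M)
    {χ : IrrCharacter G} (hχ : χ ∈ B) {g : G} (hg : p ∣ orderOf g) : (e : ℂ) * (χ : G → ℂ) g =
      ∑ ξ ∈ (bset c).erase ζ, classInner (χ : G → ℂ) (phi ζ ξ) * indFun (Cen Z) ξ g := by
  rw [h.mul_irr_sing hM hχ hg, Finset.sum_erase _ (by rw [phi, sub_self, H6.classInner_zero_right,
    zero_mul])]
  simp only [phi, H6.classInner_sub_right, sub_mul, Finset.sum_sub_distrib, ← Finset.mul_sum]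
  rw [h.sum_ind_sing hM hg, mul_zero, sub_zero]

theorem card_orbit {ξ : IrrCharacter (Cen Z)} (hξ : ξ ∈ c) (h1 : ξ ≠ ζ)
    (s : Finset (IrrCharacter (Cen Z))) (hs : ∀ ξ', ξ' ∈ s ↔ ξ' ∈ c ∧ ∃ n, cjc n ξ = ξ') :
    s.card = e := by
  classical
  have h2 := sum_comp_of_card (fun n : T => cjc (n : Nor Z) ξ) s (Nat.card (Cen Z))
    (fun ξ' => by
      rw [hs]
      constructor
      · rintro ⟨h2, n, rfl⟩; exact ⟨⟨n, h.mem_T hξ h2⟩, rfl⟩
      · rintro ⟨n, rfl⟩; exact ⟨h.cjc_mem n.2 hξ, n, rfl⟩)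
    (fun m => by
      rw [← h.card_fiber hξ h1 m]
      refine Nat.card_congr (Equiv.ofBijective (fun x => ⟨x.1, x.2⟩) ⟨fun a b hab =>
        Subtype.ext (Subtype.ext (congrArg (fun x => x.1) hab)), fun n =>
          ⟨⟨⟨n.1, h.mem_T hξ (by rw [n.2]; exact h.cjc_mem m.2 hξ)⟩, n.2⟩, rfl⟩⟩))
    fun _ => 1
  simp only [Finset.sum_const, Finset.card_univ, nsmul_eq_mul, mul_one] at h2
  rw [← Nat.card_eq_fintype_card, h.cardT, Nat.cast_mul] at h2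
  exact_mod_cast (mul_left_cancel₀ H6.card_ne_zero h2).symm

end CD

/-- The characters of a block with cyclic defect group. -/
structure Dade (p : ℕ) {G : Type*} [Group G] [Fintype G] (Z : Subgroup G) (B : Set (IrrCharacter G))
    (c : Set (IrrCharacter (Cen Z))) (ζ : IrrCharacter (Cen Z)) (e : ℕ) where
  X : Finset (IrrCharacter G)
  εX : IrrCharacter G → ℤ
  ψ : IrrCharacter (Cen Z) → IrrCharacter G
  ε : ℤ
  card_X : X.card = e
  mem_iff : ∀ χ, χ ∈ B ↔ χ ∈ X ∨ ∃ ξ ∈ c, ξ ≠ ζ ∧ ψ ξ = χ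
  not_mem : ∀ ξ ∈ c, ξ ≠ ζ → ψ ξ ∉ X
  eq_iff : ∀ ξ ∈ c, ξ ≠ ζ → ∀ ξ' ∈ c, ξ' ≠ ζ → (ψ ξ = ψ ξ' ↔ ∃ n, cjc n ξ = ξ')
  sign : ε = 1 ∨ ε = -1
  signX : ∀ χ ∈ X, εX χ = 1 ∨ εX χ = -1
  sing_X : ∀ χ ∈ X, ∀ g, p ∣ orderOf g → (e : ℂ) * (χ : G → ℂ) g = εX χ * indFun (Cen Z) ζ g
  sing_ψ : ∀ ξ ∈ c, ξ ≠ ζ → ∀ g, p ∣ orderOf g → (ψ ξ : G → ℂ) g = ε * indFun (Cen Z) ξ g
  phi_eq : ∀ ξ ∈ c, ξ ≠ ζ → ∀ g,
    CD.phi ζ ξ g = ε * (ψ ξ : G → ℂ) g - ∑ χ ∈ X, εX χ * (χ : G → ℂ) g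
  rank : blockRank p B = e

theorem linearIndependent_of_gram {K J : Type*} [Fintype K] [Fintype J] [DecidableEq J]
    (v : K → J → ℤ) (e : ℕ) (hgram : ∀ i j, ∑ k, v k i * v k j = e + if i = j then 1 else 0) :
    LinearIndependent ℂ fun j k => (v k j : ℂ) := by
  rw [Fintype.linearIndependent_iff]
  intro c hc
  have h1 : ∀ i, (e : ℂ) * ∑ j, c j + c i = 0 := by
    intro i
    have h2 : ∑ k : K, (∑ j, c j * v k j) * (v k i : ℂ) = 0 :=
      Finset.sum_eq_zero fun k _ => by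
        have := congrFun hc k
        simp only [Finset.sum_apply, Pi.smul_apply, smul_eq_mul, Pi.zero_apply] at this
        rw [this, zero_mul]
    simp only [Finset.sum_mul, mul_assoc] at h2
    rw [Finset.sum_comm] at h2
    have h3 : ∀ j, ∑ k : K, (v k j : ℂ) * v k i = e + if j = i then 1 else 0 := fun j => by
      exact_mod_cast hgram j i
    simp only [← Finset.mul_sum, h3, mul_add, Finset.sum_add_distrib, mul_ite, mul_one,
      mul_zero, Finset.sum_ite_eq', Finset.mem_univ, if_true, ← Finset.sum_mul] at h2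
    rw [← h2, mul_comm]
  have h4 : ∑ i, ((e : ℂ) * ∑ j, c j + c i) = 0 := Finset.sum_eq_zero fun i _ => h1 i
  rw [Finset.sum_add_distrib, Finset.sum_const, nsmul_eq_mul, ← mul_assoc, ← add_one_mul,
    mul_eq_zero] at h4
  have h5 : ∑ j, c j = 0 := h4.resolve_left
    (by rw [← Nat.cast_mul]; exact Nat.cast_add_one_ne_zero _)
  intro i
  simpa [h5] using h1 i

/-- conjugacy of characters -/
def orbS (Z : Subgroup G) (E : Set (IrrCharacter (Cen Z))) : Setoid E where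
  r a b := ∃ n : Nor Z, cjc n a.1 = b.1
  iseqv := ⟨fun a => ⟨1, cjc_one _⟩, fun ⟨n, e⟩ => ⟨n⁻¹, by rw [← e, cjc_inv_cjc]⟩,
    fun ⟨n, e⟩ ⟨m, e'⟩ => ⟨n * m, by rw [cjc_mul, e, e']⟩⟩

theorem CD.nonempty_dade {B : Set (IrrCharacter G)} {c : Set (IrrCharacter (Cen Z))}
    {T : Subgroup (Nor Z)} {ζ : IrrCharacter (Cen Z)} {e : ℕ} (h : CD p M Z B c T ζ e)
    (hM : IsPModular p M) (hd : blockDefect p B ≠ 0) (hc : ∃ ξ ∈ c, ξ ≠ ζ)
    (hle : e ≤ blockRank p B) : Nonempty (Dade p Z B c ζ e) := by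
  classical
  have hB := h.ind.2.1
  have he0 := h.e_ne_zero
  choose V hV using fun (χ : IrrCharacter G) (ξ : IrrCharacter (Cen Z)) =>
    H6.gen_inner_int (irr_gen χ) (CD.isGen_phi (ζ := ζ) ξ)
  have hV' : ∀ (χ : IrrCharacter G) ξ, classInner (CD.phi ζ ξ) χ = V χ ξ := fun χ ξ => by
    rw [H6.gen_inner_comm (CD.isGen_phi ξ) (irr_gen χ), hV]
  have hV0 : ∀ χ, χ ∉ B → ∀ ξ ∈ c, V χ ξ = 0 := fun χ hχ ξ hξ => by
    have := hV χ ξ
    rw [h.inner_phi_of_not_mem hM hχ hξ] at this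
    exact_mod_cast this.symm
  have hsumB : ∀ f : IrrCharacter G → ℂ, (∀ χ, χ ∉ B → f χ = 0) → ∑ χ, f χ = ∑ χ : B, f χ := by
    intro f hf
    rw [← sum_bset_eq_sum B f hf]
    exact Finset.sum_subtype _ (fun _ => mem_bset) _
  let E : Set (IrrCharacter (Cen Z)) := {ξ | ξ ∈ c ∧ ξ ≠ ζ}
  let J := Quotient (orbS Z E)
  obtain ⟨ξ₀, h₀⟩ := hc
  let a₀ : E := ⟨ξ₀, h₀⟩
  haveI : Nonempty J := ⟨⟦a₀⟧⟩
  let v : B → J → ℤ := fun χ j => V χ j.out.1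
  have hv : ∀ (χ : B) (a : E), V χ a = v χ ⟦a⟧ := fun χ a => by
    obtain ⟨n, hn⟩ : ∃ n : Nor Z, cjc n (⟦a⟧ : J).out.1 = a.1 := Quotient.mk_out (s := orbS Z E) a
    have := hV χ a
    rw [← hn, CD.phi_cjc, hV, hn] at this
    exact_mod_cast this.symm
  have hphi : ∀ ξ ∈ c, ∀ g, CD.phi ζ ξ g = ∑ χ : B, (V χ ξ : ℂ) * (χ.1 : G → ℂ) g := by
    intro ξ hξ g
    rw [H6.classFun_apply_eq_sum_irr (CD.isClassFunction_phi ξ) g]
    simp only [hV']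
    exact hsumB _ fun χ hχ => by rw [hV0 χ hχ ξ hξ, Int.cast_zero, zero_mul]
  have hgram : ∀ i j, ∑ k, v k i * v k j = e + if i = j then 1 else 0 := by
    intro i j
    have h1 := h.inner_phi_phi i.out.2.1 i.out.2.2 j.out.2.1 j.out.2.2
    rw [H6.parseval (CD.isClassFunction_phi _)] at h1
    simp only [hV', map_intCast] at h1
    rw [hsumB _ fun χ hχ => by rw [hV0 χ hχ _ i.out.2.1, Int.cast_zero, zero_mul]] at h1
    have h2 : (∃ n : Nor Z, cjc n i.out.1 = j.out.1) ↔ i = j :=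
      Quotient.out_equiv_out (s := orbS Z E)
    simp only [h2] at h1
    exact_mod_cast h1
  have hsE : ∀ f : IrrCharacter (Cen Z) → ℂ, ∑ ξ ∈ (bset c).erase ζ, f ξ = ∑ a : E, f a :=
    fun f => Finset.sum_subtype _ (fun ξ => by rw [Finset.mem_erase, mem_bset, and_comm]; rfl) _
  have hform : ∀ χ : B, ∀ g, p ∣ orderOf g → (e : ℂ) * (χ.1 : G → ℂ) g =
      ∑ a : E, (v χ ⟦a⟧ : ℂ) * indFun (Cen Z) a.1 g := fun χ g hg => by
    rw [h.mul_irr_sing' hM χ.2 hg, hsE]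
    simp only [hV, hv]
  have hne : ∀ k, ∃ j, v k j ≠ 0 := by
    intro k
    by_contra hcon
    push Not at hcon
    have h1 := degree_factorization_eq_of_vanish (p := p) k.1 fun g hg hg1 => by
      have := hform k g (hg.dvd_orderOf hg1)
      simp only [hcon, Int.cast_zero, zero_mul, Finset.sum_const_zero] at this
      exact (mul_eq_zero.mp this).resolve_left he0
    exact hd ((blockDefect_eq_zero_iff hM hB k.2).mpr h1)
  have hrank := rank_add_le_card (p := p) (B := B) (fun j χ => (v χ j : ℂ))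
    (linearIndependent_of_gram v e hgram)
    (fun j g hg => by rw [finsum_eq_sum_of_fintype, ← hphi _ j.out.2.1, h.phi_of_reg j.out.2.1 hg])
  obtain ⟨X, ε, ψ, δ, hX, hXε, hinj, hψX, hsurj, hδ⟩ := gram_structure v e hgram hne
    (by rw [← Nat.card_eq_fintype_card (α := B)]; omega)
  have hsplit : ∀ f : B → ℂ, ∑ k, f k = ∑ k ∈ X, f k + ∑ j, f (ψ j) := by
    intro f
    rw [← Finset.sum_add_sum_compl X]
    congr 1
    symm
    refine Finset.sum_bij (fun j _ => ψ j) (fun j _ => Finset.mem_compl.mpr (hψX j))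
      (fun a _ b _ hab => hinj hab) (fun k hk => ?_) fun _ _ => rfl
    obtain ⟨j, hj⟩ := hsurj k (Finset.mem_compl.mp hk)
    exact ⟨j, Finset.mem_univ _, hj⟩
  have hphi' : ∀ (a : E) g, CD.phi ζ a g =
      ∑ k ∈ X, (ε k : ℂ) * (k.1 : G → ℂ) g + δ ⟦a⟧ * ((ψ ⟦a⟧).1 : G → ℂ) g := by
    intro a g
    rw [hphi _ a.2.1, hsplit]
    congr 1
    · exact Finset.sum_congr rfl fun k hk => by rw [hv, (hXε k hk).2]
    · rw [Finset.sum_eq_single (⟦a⟧ : J)]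
      · rw [hv, (hδ _).2, if_pos rfl]
      · intro j _ hj
        rw [hv, (hδ _).2, if_neg (Ne.symm hj), Int.cast_zero, zero_mul]
      · exact fun h => absurd (Finset.mem_univ _) h
  have hδeq : ∀ a : E, δ ⟦a⟧ = δ ⟦a₀⟧ := by
    intro a
    have h1 := hphi' a 1
    have h2 := hphi' a₀ 1
    rw [h.phi_of_reg a.2.1 not_dvd_orderOf_one] at h1
    rw [h.phi_of_reg a₀.2.1 not_dvd_orderOf_one] at h2
    have h3 := add_left_cancel (h1.symm.trans h2)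
    rw [← cast_deg, ← cast_deg] at h3
    have h4 : δ ⟦a⟧ * (charDegree ((ψ ⟦a⟧).1 : G → ℂ) : ℤ) =
        δ ⟦a₀⟧ * (charDegree ((ψ ⟦a₀⟧).1 : G → ℂ) : ℤ) := by
      exact_mod_cast h3
    have h5 := deg_pos (ψ ⟦a⟧).1
    have h6 := deg_pos (ψ ⟦a₀⟧).1
    rcases (hδ ⟦a⟧).1 with h7 | h7 <;> rcases (hδ ⟦a₀⟧).1 with h8 | h8 <;>
      rw [h7, h8] at h4 ⊢ <;> omega
  have hcardB : Nat.card B = e + Fintype.card J := by
    have := hsplit fun _ => 1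
    simp only [Finset.sum_const, Finset.card_univ, nsmul_eq_mul, mul_one, hX] at this
    rw [Nat.card_eq_fintype_card]
    exact_mod_cast this
  let ψ' : IrrCharacter (Cen Z) → IrrCharacter G := fun ξ =>
    (ψ ⟦if hξ : ξ ∈ E then ⟨ξ, hξ⟩ else a₀⟧).1
  have hψ' : ∀ ξ (h1 : ξ ∈ c) (h2 : ξ ≠ ζ), ψ' ξ = (ψ ⟦⟨ξ, h1, h2⟩⟧).1 := fun ξ h1 h2 => by
    simp only [ψ', dif_pos (show ξ ∈ E from ⟨h1, h2⟩)]
  refine ⟨⟨X.map (Function.Embedding.subtype _), fun χ => if hχ : χ ∈ B then -ε ⟨χ, hχ⟩ else 0,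
    ψ', δ ⟦a₀⟧, by rw [Finset.card_map, hX], ?_, ?_, ?_, (hδ _).1, ?_, ?_, ?_, ?_, by omega⟩⟩
  · intro χ
    constructor
    · intro hχ
      by_cases hx : (⟨χ, hχ⟩ : B) ∈ X
      · exact Or.inl (Finset.mem_map.mpr ⟨_, hx, rfl⟩)
      · obtain ⟨j, hj⟩ := hsurj _ hx
        refine Or.inr ⟨j.out, j.out.2.1, j.out.2.2, ?_⟩
        rw [hψ' _ j.out.2.1 j.out.2.2, Subtype.coe_eta, Quotient.out_eq, hj]
    · rintro (hχ | ⟨ξ, -, -, rfl⟩)
      · obtain ⟨k, -, rfl⟩ := Finset.mem_map.mp hχ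
        exact k.2
      · exact (ψ _).2
  · intro ξ _ _ hi
    obtain ⟨k, hk, e⟩ := Finset.mem_map.mp hi
    exact hψX _ (Subtype.ext e ▸ hk)
  · intro ξ h1 h2 ξ' h1' h2'
    rw [hψ' _ h1 h2, hψ' _ h1' h2', ← Subtype.ext_iff, hinj.eq_iff, Quotient.eq]
    rfl
  · intro χ hχ
    obtain ⟨k, hk, rfl⟩ := Finset.mem_map.mp hχ
    rw [Function.Embedding.subtype_apply, dif_pos k.2]
    rcases (hXε k hk).1 with h1 | h1 <;> simp [h1]
  · intro χ hχ g hg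
    obtain ⟨k, hk, rfl⟩ := Finset.mem_map.mp hχ
    rw [Function.Embedding.subtype_apply, dif_pos k.2, hform k g hg]
    simp only [(hXε k hk).2, ← Finset.mul_sum]
    have h0 := h.sum_ind_sing hM hg
    rw [← Finset.add_sum_erase _ _ (mem_bset.mpr h.mem), hsE] at h0
    rw [eq_neg_of_add_eq_zero_right h0]
    simp
  · intro ξ h1 h2 g hg
    apply mul_left_cancel₀ he0
    rw [hψ' _ h1 h2, hform _ g hg]
    simp only [(hδ _).2, hδeq]
    have h3 : ∀ a : E, (((if (⟦a⟧ : J) = ⟦⟨ξ, h1, h2⟩⟧ then δ ⟦a₀⟧ else 0 : ℤ) : ℂ)) *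
        indFun (Cen Z) a.1 g =
        if ∃ n, cjc n ξ = a.1 then (δ ⟦a₀⟧ : ℂ) * indFun (Cen Z) ξ g else 0 := by
      intro a
      by_cases hu : ∃ n, cjc n ξ = a.1
      · rw [if_pos hu, if_pos (Quotient.sound (s := orbS Z E) (a := ⟨ξ, h1, h2⟩) hu).symm]
        obtain ⟨n, hn⟩ := hu
        rw [← hn, indFun_cjc]
      · rw [if_neg hu, if_neg fun h => hu (Quotient.exact h.symm), Int.cast_zero, zero_mul]
    simp only [h3]
    rw [← hsE fun a => if ∃ n, cjc n ξ = a then (δ ⟦a₀⟧ : ℂ) * indFun (Cen Z) ξ g else 0,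
      ← Finset.sum_filter, Finset.sum_const, nsmul_eq_mul, h.card_orbit h1 h2]
    intro ξ'
    rw [Finset.mem_filter, Finset.mem_erase, mem_bset]
    exact ⟨fun h4 => ⟨h4.1.2, h4.2⟩, fun ⟨h4, n, hn⟩ => ⟨⟨hn ▸ h.cjc_ne h1 h2, h4⟩, n, hn⟩⟩
  · intro ξ h1 h2 g
    rw [hψ' _ h1 h2, hphi' ⟨ξ, h1, h2⟩, hδeq, Finset.sum_map, add_comm, sub_eq_add_neg,
      ← Finset.sum_neg_distrib]
    congr 1
    refine Finset.sum_congr rfl fun k _ => ?_
    rw [Function.Embedding.subtype_apply, dif_pos k.2]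
    simp

theorem card_dvd_of_sing {P : Subgroup G} (hP : IsPGroup p P) {χ ψ : IrrCharacter G} {a b : ℤ}
    (h : ∀ g, p ∣ orderOf g → (a : ℂ) * (χ : G → ℂ) g = b * (ψ : G → ℂ) g) :
    a * (charDegree (χ : G → ℂ) : ℤ) ≡ b * (charDegree (ψ : G → ℂ) : ℤ) [ZMOD Nat.card P] := by
  classical
  obtain ⟨m, hm⟩ := sum_char_subgroup (irr_char χ) P
  obtain ⟨n, hn⟩ := sum_char_subgroup (irr_char ψ) P
  have h1 : ∑ y : P, ((b : ℂ) * (ψ : G → ℂ) y - a * (χ : G → ℂ) y) =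
      b * (ψ : G → ℂ) 1 - a * (χ : G → ℂ) 1 := by
    refine (Finset.sum_eq_single (1 : P) (fun y _ hy => ?_) (by simp))
    rw [h y ((isPElt_of_mem hP y.2).dvd_orderOf fun e => hy (Subtype.ext e)), sub_self]
  rw [Finset.sum_sub_distrib, ← Finset.mul_sum, ← Finset.mul_sum, hm, hn, ← cast_deg,
    ← cast_deg] at h1
  refine Int.modEq_iff_dvd.mpr ⟨b * n - a * m, ?_⟩
  have : (b : ℂ) * (charDegree (ψ : G → ℂ) : ℤ) - a * (charDegree (χ : G → ℂ) : ℤ) =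
      (Nat.card P : ℤ) * (b * n - a * m) := by
    push_cast; rw [← h1]; ring
  exact_mod_cast this

theorem factorization_le_of_modEq {a b : ℕ} {u v : ℤ} {N : ℕ} (ha : a ≠ 0) (hb : b ≠ 0)
    (hu : ¬ (p : ℤ) ∣ u) (h : u * a ≡ v * b [ZMOD (p : ℤ) ^ N]) (hN : a.factorization p < N) :
    b.factorization p ≤ a.factorization p := by
  by_contra hlt
  push Not at hlt
  have h1 : (p : ℤ) ^ (a.factorization p + 1) ∣ v * b := Dvd.dvd.mul_left (by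
    exact_mod_cast (hp.out.pow_dvd_iff_le_factorization hb).mpr hlt) _
  have h2 : (p : ℤ) ^ (a.factorization p + 1) ∣ u * a :=
    ((h.of_dvd (pow_dvd_pow _ hN)).dvd_iff).mpr h1
  have h3 := (Nat.prime_iff_prime_int.mp hp.out).pow_dvd_of_dvd_mul_left _ hu h2
  have := (hp.out.pow_dvd_iff_le_factorization ha).mp (by exact_mod_cast h3)
  omega

namespace Dade
variable {B : Set (IrrCharacter G)} {c : Set (IrrCharacter (Cen Z))} {T : Subgroup (Nor Z)}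
  {ζ : IrrCharacter (Cen Z)} {e : ℕ} (D : Dade p Z B c ζ e)

theorem sign_sq : (D.ε : ℂ) * D.ε = 1 := by rcases D.sign with h | h <;> simp [h]

theorem signX_sq {χ : IrrCharacter G} (hχ : χ ∈ D.X) : (D.εX χ : ℂ) * D.εX χ = 1 := by
  rcases D.signX χ hχ with h | h <;> simp [h]

theorem mem_of_mem_X {χ : IrrCharacter G} (hχ : χ ∈ D.X) : χ ∈ B := (D.mem_iff χ).mpr (Or.inl hχ)

theorem ψ_mem {ξ : IrrCharacter (Cen Z)} (hξ : ξ ∈ c) (h1 : ξ ≠ ζ) : D.ψ ξ ∈ B :=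
  (D.mem_iff _).mpr (Or.inr ⟨ξ, hξ, h1, rfl⟩)

open Classical in
/-- the exceptional characters -/
noncomputable def Y : Finset (IrrCharacter G) := bset B \ D.X

theorem mem_Y' {χ : IrrCharacter G} : χ ∈ D.Y ↔ χ ∈ B ∧ χ ∉ D.X := by
  rw [Y, Finset.mem_sdiff, mem_bset]

theorem mem_Y {χ : IrrCharacter G} : χ ∈ D.Y ↔ ∃ ξ ∈ c, ξ ≠ ζ ∧ D.ψ ξ = χ := by
  rw [mem_Y', D.mem_iff]
  exact ⟨fun h => h.1.resolve_left h.2, fun ⟨ξ, h1, h2, h3⟩ =>
    ⟨Or.inr ⟨ξ, h1, h2, h3⟩, h3 ▸ D.not_mem ξ h1 h2⟩⟩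

theorem sum_B {A : Type*} [AddCommMonoid A] (f : IrrCharacter G → A) :
    ∑ χ ∈ bset B, f χ = ∑ χ ∈ D.X, f χ + ∑ χ ∈ D.Y, f χ := by
  classical
  rw [add_comm, Y]
  convert (Finset.sum_sdiff fun χ hχ => mem_bset.mpr (D.mem_of_mem_X hχ)).symm

theorem card_B : Nat.card B = e + D.Y.card := by
  have := D.sum_B fun _ => 1
  simpa only [← Finset.card_eq_sum_ones, card_bset, D.card_X] using this

variable (h : CD p M Z B c T ζ e)
include h

theorem reg_rel {ξ : IrrCharacter (Cen Z)} (hξ : ξ ∈ c) (h1 : ξ ≠ ζ) {g : G}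
    (hg : ¬ p ∣ orderOf g) : D.ε * (D.ψ ξ : G → ℂ) g = ∑ χ ∈ D.X, D.εX χ * (χ : G → ℂ) g := by
  have := D.phi_eq ξ hξ h1 g
  rw [h.phi_of_reg hξ hg] at this
  exact sub_eq_zero.mp this.symm

theorem reg_rel_Y {ψ : IrrCharacter G} (hψ : ψ ∈ D.Y) {g : G}
    (hg : ¬ p ∣ orderOf g) : D.ε * (ψ : G → ℂ) g = ∑ χ ∈ D.X, D.εX χ * (χ : G → ℂ) g := by
  obtain ⟨ξ, h1, h2, rfl⟩ := D.mem_Y.mp hψ
  exact D.reg_rel h h1 h2 hg

theorem reg_eq {ψ ψ' : IrrCharacter G} (hψ : ψ ∈ D.Y) (hψ' : ψ' ∈ D.Y) {g : G}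
    (hg : ¬ p ∣ orderOf g) : (ψ : G → ℂ) g = (ψ' : G → ℂ) g := by
  have := (D.reg_rel_Y h hψ hg).trans (D.reg_rel_Y h hψ' hg).symm
  rw [← one_mul ((ψ : G → ℂ) g), ← D.sign_sq, mul_assoc, this, ← mul_assoc, D.sign_sq, one_mul]

theorem sum_ψ [DecidableEq (IrrCharacter (Cen Z))] (f : IrrCharacter G → ℂ) :
    ∑ ξ ∈ (bset c).erase ζ, f (D.ψ ξ) = e * ∑ χ ∈ D.Y, f χ := by
  classical
  rw [Finset.sum_comp f D.ψ, Finset.mul_sum]
  refine Finset.sum_congr ?_ fun χ hχ => ?_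
  · ext χ
    simp only [D.mem_Y, Finset.mem_image, Finset.mem_erase, mem_bset, and_assoc, and_left_comm]
  · obtain ⟨ξ, h1, h2, rfl⟩ := D.mem_Y.mp hχ
    rw [nsmul_eq_mul, h.card_orbit h1 h2]
    intro ξ'
    rw [Finset.mem_filter, Finset.mem_erase, mem_bset]
    exact ⟨fun h3 => ⟨h3.1.2, (D.eq_iff ξ h1 h2 ξ' h3.1.2 h3.1.1).mp h3.2.symm⟩,
      fun ⟨h3, n, hn⟩ => have h4 : ξ' ≠ ζ := hn ▸ h.cjc_ne h1 h2
        ⟨⟨h4, h3⟩, ((D.eq_iff ξ h1 h2 ξ' h3 h4).mpr ⟨n, hn⟩).symm⟩⟩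

theorem card_Y : e * D.Y.card + 1 = Nat.card c := by
  classical
  have := D.sum_ψ h fun _ => 1
  simp only [Finset.sum_const, nsmul_eq_mul, mul_one] at this
  rw [← card_bset, ← Finset.card_erase_add_one (mem_bset.mpr h.mem)]
  congr 1
  exact_mod_cast this.symm

theorem modEq_X {P : Subgroup G} (hP : IsPGroup p P) {χ χ' : IrrCharacter G} (hχ : χ ∈ D.X)
    (hχ' : χ' ∈ D.X) : D.εX χ * (charDegree (χ : G → ℂ) : ℤ) ≡
      D.εX χ' * (charDegree (χ' : G → ℂ) : ℤ) [ZMOD Nat.card P] := by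
  refine card_dvd_of_sing hP fun g hg => mul_left_cancel₀ h.e_ne_zero ?_
  rw [mul_left_comm, D.sing_X χ hχ g hg, mul_left_comm (e : ℂ), D.sing_X χ' hχ' g hg,
    ← mul_assoc, ← mul_assoc, D.signX_sq hχ, D.signX_sq hχ']

theorem modEq_Y {P : Subgroup G} (hP : IsPGroup p P) {ψ χ : IrrCharacter G} (hψ : ψ ∈ D.Y)
    (hχ : χ ∈ D.X) : D.ε * (charDegree (ψ : G → ℂ) : ℤ) ≡
      e * D.εX χ * (charDegree (χ : G → ℂ) : ℤ) [ZMOD Nat.card P] := by
  have h1 := D.reg_rel_Y h hψ (g := 1) not_dvd_orderOf_one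
  simp only [← cast_deg] at h1
  have h2 : D.ε * (charDegree (ψ : G → ℂ) : ℤ) =
      ∑ χ ∈ D.X, D.εX χ * (charDegree (χ : G → ℂ) : ℤ) := by exact_mod_cast h1
  rw [h2, mul_assoc, show (e : ℤ) = D.X.card by rw [D.card_X], ← nsmul_eq_mul, ← Finset.sum_const]
  exact Int.ModEq.sum fun χ' hχ' => D.modEq_X h hP hχ' hχ

include D in
theorem height_eq_zero (hM : IsPModular p M) (hd : blockDefect p B ≠ 0) (he : ¬ p ∣ e)
    {χ : IrrCharacter G} (hχ : χ ∈ B) : blockHeight p B (χ : G → ℂ) = 0 := by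
  obtain ⟨P⟩ : Nonempty (Sylow p G) := inferInstance
  obtain ⟨χ₀, h₀⟩ : D.X.Nonempty := Finset.card_pos.mp (by rw [D.card_X]; exact h.e_pos)
  have hpu : ∀ u : ℤ, u = 1 ∨ u = -1 → ¬ (p : ℤ) ∣ u := fun u hu hd =>
    (Nat.prime_iff_prime_int.mp hp.out).not_isUnit
      (isUnit_of_dvd_unit hd (Int.isUnit_iff.mpr hu))
  have key : ∀ χ ∈ B, ∃ u v : ℤ, ¬ (p : ℤ) ∣ u ∧ ¬ (p : ℤ) ∣ v ∧
      u * (charDegree (χ : G → ℂ) : ℤ) ≡ v * (charDegree (χ₀ : G → ℂ) : ℤ)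
        [ZMOD (p : ℤ) ^ (Nat.card G).factorization p] := by
    intro χ hχ
    have hc : ((Nat.card P : ℕ) : ℤ) = (p : ℤ) ^ (Nat.card G).factorization p := by
      rw [P.card_eq_multiplicity]; push_cast; rfl
    rw [← hc]
    by_cases hX : χ ∈ D.X
    · exact ⟨_, _, hpu _ (D.signX χ hX), hpu _ (D.signX χ₀ h₀), D.modEq_X h P.isPGroup' hX h₀⟩
    · refine ⟨_, _, hpu _ D.sign, fun h1 => ?_, D.modEq_Y h P.isPGroup' (D.mem_Y'.mpr ⟨hχ, hX⟩) h₀⟩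
      rcases (Nat.prime_iff_prime_int.mp hp.out).dvd_or_dvd h1 with h2 | h2
      · exact he (by exact_mod_cast h2)
      · exact hpu _ (D.signX χ₀ h₀) h2
  obtain ⟨χ₁, h₁, h₁'⟩ := exists_minVal_eq (p := p) ⟨χ, hχ⟩
  have hs := minVal_add_blockDefect (p := p) h.ind.2.1
  obtain ⟨u₁, v₁, hu₁, -, e₁⟩ := key χ₁ h₁
  obtain ⟨u, v, -, hv, e₂⟩ := key χ hχ
  have l1 := factorization_le_of_modEq (deg_pos χ₁).ne' (deg_pos χ₀).ne' hu₁ e₁ (by omega)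
  have l2 := factorization_le_of_modEq (deg_pos χ₀).ne' (deg_pos χ).ne' hv e₂.symm (by omega)
  rw [H33.blockHeight_eq]
  omega

end Dade

end H35C
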