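import Mathlib
import Cfsg.Agent.Base
import Cfsg.Agent.Lib.Cyc.Nil
import Cfsg.Agent.Lib.Cyc.Char
import Cfsg.Agent.Lib.Blk86.Cyc
import Cfsg.Agent.Lib.Blk86.Major
import Cfsg.Agent.Lib.Block.QuotRank
import Cfsg.Agent.Lib.Block.DefVan

/-! Blocks with cyclic defect group. -/

set_option autoImplicit false
set_option linter.unusedSectionVars false
set_option linter.style.haveILetI false

open Cfsg H33 H84 MonoidAlgebra
open H35 hiding cj
open H86 (Cen Nor cs cj St eS IsMaxPair IsBlk IsDef IsNil PairOf quotSet)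
open scoped ComplexConjugate

attribute [local irreducible] H33.instFieldF

namespace H35C

section grp
variable {G : Type*} [Group G] [Finite G] {p : ℕ} [hp : Fact p.Prime] {Z D : Subgroup G}

theorem comm_mem_Cen (h : IsCyclic Z) (n m : Nor Z) : ((m⁻¹ * n⁻¹ * m * n : Nor Z) : G) ∈ Cen Z := by
  have h1 : m⁻¹ * n⁻¹ * m * n ∈ Z.normalizerMonoidHom.ker := by
    have := IsCyclic.mulAutMulEquiv Z
    rw [MonoidHom.mem_ker, ← this.map_eq_one_iff]
    simp only [map_mul, map_inv]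
    rw [mul_assoc, mul_assoc, mul_comm (this _) (this _), inv_mul_cancel_left, inv_mul_cancel]
  rwa [Subgroup.normalizerMonoidHom_ker] at h1

theorem le_zpowers_of_cyclic (hc : IsCyclic D) (hD : IsPGroup p D) (hZD : Z ≤ D)
    (hZ : Nat.card Z = p) {d : G} (hd : d ∈ D) (h1 : d ≠ 1) : Z ≤ Subgroup.zpowers d :=
  H80.le_of_card_dvd_of_le_isCyclic hc hZD (Subgroup.zpowers_le.2 hd)
    (by rw [hZ, Nat.card_zpowers]; exact (isPElt_of_mem hD hd).dvd_orderOf h1)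

theorem exists_card_eq_prime (hD : IsPGroup p D) (h1 : D ≠ ⊥) : ∃ Z ≤ D, Nat.card Z = p := by
  obtain ⟨n, hn⟩ := IsPGroup.iff_card.1 hD
  have hdvd : p ∣ Nat.card D := by
    rw [hn]
    refine dvd_pow_self p fun h0 => h1 ?_
    rwa [h0, pow_zero, Subgroup.card_eq_one] at hn
  obtain ⟨z, hz⟩ := exists_prime_orderOf_dvd_card' p hdvd
  exact ⟨_, Subgroup.zpowers_le.2 z.2, by rw [Nat.card_zpowers, Subgroup.orderOf_coe, hz]⟩

end grp

variable {G : Type*} [Group G] [Fintype G] {p : ℕ} [hp : Fact p.Prime] {Z D : Subgroup G}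
  {M : Ideal AlgInt} [M.IsMaximal] {B : Set (IrrCharacter G)} {c : Set (IrrCharacter (Cen Z))}

theorem image_cjc_eq_iff (hc : IsPBlock M c) (n : Nor Z) :
    cjc n '' c = c ↔ cj (n : G) (eS M (Cen Z) c) = eS M (Cen Z) c := by
  rw [← H86.eS_image_trI _ (cs_Cen_of_Nor n), Set.image_congr fun ξ _ => trI_csEquiv n ξ]
  constructor
  · intro h
    conv_lhs => rw [← h, ← image_cjc_mul, mul_inv_cancel, image_cjc_one]
  · intro h
    have h1 : IsPBlock M (cjc n⁻¹ '' c) := by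
      rw [← Set.image_congr fun ξ _ => trI_csEquiv n ξ]
      exact H86.isPBlock_image_trI _ hc
    conv_lhs => rw [← H86.eS_inj h1 hc h, ← image_cjc_mul, inv_mul_cancel, image_cjc_one]

theorem existsUnique_fixed (hM : IsPModular p M) (hc : IsPBlock M c) (hl : blockRank p c = 1)
    (hs : ∀ ξ ∈ c, ∀ h : Cen Z, p ∣ orderOf h → (ξ : Cen Z → ℂ) h ≠ 0 → Ov p Z (h : G))
    (hr : ∀ ξ ∈ c, ∀ ξ' ∈ c, ∀ h : Cen Z, ¬ p ∣ orderOf h →
      (ξ : Cen Z → ℂ) h = (ξ' : Cen Z → ℂ) h)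
    {n : Nor Z} (hn : cjc n '' c = c) (hn' : (n : G) ∉ Cen Z) : ∃! ξ, ξ ∈ c ∧ cjc n ξ = ξ := by
  classical
  have h1 := blockRank_eq_sum hM hc
  have h2 : ∑ ξ ∈ bset c, classInner (cjc n ξ : Cen Z → ℂ) ξ =
      ∑ ξ ∈ bset c, classInner (pRegularPart p (ξ : Cen Z → ℂ)) ξ := by
    simp only [H6.classInner_def, ← Finset.mul_sum]
    congr 1
    rw [Finset.sum_comm, Finset.sum_comm (s := bset c)]
    refine Finset.sum_congr rfl fun x _ => ?_
    by_cases hx : p ∣ orderOf x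
    · simp only [reg_of_sing _ hx, zero_mul, Finset.sum_const_zero, cjc_apply]
      by_contra h0
      obtain ⟨ξ, hξ, h3⟩ := Finset.exists_ne_zero_of_sum_ne_zero h0
      have h4 := hs ξ (mem_bset.1 hξ) x hx ((map_ne_zero _).1 (right_ne_zero_of_mul h3))
      obtain ⟨a, ha⟩ := isConj_iff.1 (by_contra fun h5 => h0 (col_eq_zero hM hc h5))
      have h5 := congrArg (fun y : Cen Z => (y : G)) ha
      simp only [Subgroup.coe_mul, Subgroup.coe_inv, ← pPart_coe, coe_cE, pPart_conj] at h5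
      refine hn' ((mul_mem_cancel_left a.2).1 (h4.cen_le (Subgroup.mem_centralizer_iff.2 ?_)))
      rintro _ rfl
      conv_lhs => rw [← h5]
      group
    · refine Finset.sum_congr rfl fun ξ hξ => ?_
      rw [reg_of_reg _ hx, hr _ (hn ▸ ⟨ξ, mem_bset.1 hξ, rfl⟩) ξ (mem_bset.1 hξ) x hx]
  rw [← h2, hl] at h1
  simp only [H6.irr_inner', Finset.sum_boole, Nat.cast_inj] at h1
  obtain ⟨ξ, hξ⟩ := Finset.card_eq_one.1 h1.symm
  refine ⟨ξ, ?_, fun ξ' h' => ?_⟩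
  · have := hξ ▸ Finset.mem_singleton_self ξ
    rwa [Finset.mem_filter, mem_bset] at this
  · rw [← Finset.mem_singleton, ← hξ, Finset.mem_filter, mem_bset]
    exact h'

/-- a block with cyclic defect group `D`, and the block `c` of `C(Z)` below a maximal pair -/
structure LD (p : ℕ) (M : Ideal AlgInt) [M.IsMaximal] {G : Type*} [Group G] [Finite G]
    (B : Set (IrrCharacter G)) (D Z : Subgroup G) (c : Set (IrrCharacter (Cen Z)))
    (b : (F M)[G]) : Prop where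
  blk : IsPBlock M B
  max : IsMaxPair p ⊤ (eB M B) D b
  cblk : IsPBlock M c
  sub : H86.Sub p ⊤ Z (eS M (Cen Z) c) D b
  cyc : IsCyclic D
  card : Nat.card Z = p

theorem exists_LD (hM : IsPModular p M) (hB : IsPBlock M B) {b : (F M)[G]}
    (hm : IsMaxPair p ⊤ (eB M B) D b) (hc : IsCyclic D) (hZD : Z ≤ D) (hZ : Nat.card Z = p) :
    ∃ c, LD p M B D Z c b := by
  haveI := charP hM
  obtain ⟨f, hf⟩ := hm.toPair.exists_sub hZD
  obtain ⟨c, h1, rfl⟩ := (hf.left hm.toPair).exists_eS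
  exact ⟨c, hB, hm, h1, hf, hc, hZ⟩

theorem exists_LD' (hM : IsPModular p M) (hD : IsDefectGroup p M B D) (hc : IsCyclic D)
    (hZD : Z ≤ D) (hZ : Nat.card Z = p) (hind : IsInducedBlock M (Cen Z) c B)
    (hcD : IsDef p (Cen Z) (eS M (Cen Z) c) D) : ∃ b, LD p M B D Z c b := by
  haveI := charP hM
  have hB := hind.2.1
  have hD' := (H86.isDefectGroup_iff hB D).1 hD
  obtain ⟨b, hb⟩ := hcD.exists_isMaxPair (H86.isBlk_eS hind.1)
  have hp := H86.pair_of_isBrauerPair (p := p) ⟨hD'.pgrp.to_le hZD, hind.1⟩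
  have h1 := (hb.toPairOf.nsub hp hZD inf_le_right (by simpa using hp.Cen_le_St)).sub
  have h2 : PairOf p ⊤ (eB M B) Z (eS M (Cen Z) c) := ⟨hp,
    (isInducedBlock_iff_br_eS hM hp.pgrp (hZD.trans hcD.le) le_rfl (H86.Cen_le_Nor Z) hind.1 hB).1
      hind⟩
  exact ⟨b, hB, (h1.pairOf_right (H86.isBlk_eB hB) h2).isMaxPair hD', hind.1, h1, hc, hZ⟩

namespace LD
variable {b : (F M)[G]} (h : LD p M B D Z c b)
include h

theorem le : Z ≤ D := h.sub.le

theorem ne : Z ≠ ⊥ := fun h0 => by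
  have := h.card
  rw [h0, Subgroup.card_bot] at this
  exact hp.out.one_lt.ne this

theorem ne' : D ≠ ⊥ := fun h0 => h.ne (le_bot_iff.1 (h0 ▸ h.le))

theorem pgrp : IsPGroup p Z := h.max.pgrp.to_le h.le

theorem ab : D ≤ Cen D := H86.le_Cen_of_isCyclic h.cyc

theorem DC : D ≤ Cen Z := h.ab.trans (H86.Cen_anti h.le)

theorem low {d : G} (hd : d ∈ D) (h1 : d ≠ 1) : Z ≤ Subgroup.zpowers d :=
  le_zpowers_of_cyclic h.cyc h.max.pgrp h.le h.card hd h1

variable (hM : IsPModular p M)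
include hM

theorem isDefB : IsDefectGroup p M B D := by
  haveI := charP hM
  exact (H86.isDefectGroup_iff h.blk D).2 (h.max.isDef (H86.isBlk_eB h.blk))

theorem defect_ne : blockDefect p B ≠ 0 := fun h0 =>
  h.ne' ((blockDefect_eq_zero_iff_bot hM h.blk (h.isDefB hM)).1 h0)

theorem pairOf : PairOf p ⊤ (eB M B) Z (eS M (Cen Z) c) := by
  haveI := charP hM
  exact h.sub.pairOf_left (H86.isBlk_eB h.blk) h.max.toPairOf

theorem ind : IsInducedBlock M (Cen Z) c B :=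
  (isInducedBlock_iff_br_eS hM h.pgrp (h.le.trans h.DC) le_rfl (H86.Cen_le_Nor Z) h.cblk h.blk).2
    (h.pairOf hM).br_mul

theorem isDef : IsDef p (Cen Z) (eS M (Cen Z) c) D := by
  haveI := charP hM
  simpa using h.sub.isDef_of_le_Cen h.max (H86.isBlk_eB h.blk) h.DC

theorem isDefc : IsDefectGroup p M c (D.subgroupOf (Cen Z)) := by
  haveI := charP hM
  exact (H86.isDefectGroup_subgroupOf_iff h.cblk h.DC).2 (h.isDef hM)

theorem nd : ¬ p ∣ (Cen D).relIndex (St ⊤ D b) := by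
  haveI := charP hM
  haveI := H86.good hM G
  have := h.max.not_dvd (H86.isBlk_eB h.blk)
  rwa [top_inf_eq, sup_eq_right.2 h.ab] at this

theorem inf_eq : Cen Z ⊓ St ⊤ D b = Cen D ⊓ St ⊤ D b :=
  H86.inf_Cen_le_of_isCyclic h.cyc h.max.pgrp (H86.St_le_Nor _ _ _) (h.nd hM) h.le h.ne

theorem dvd : (Cen D).relIndex (St ⊤ D b) ∣ p - 1 := by
  haveI := H86.normal_subgroupOf ((H86.St_le_Nor ⊤ D b).trans (H86.Nor_le_Nor_Cen D))
  exact (H86.isCyclic_quot_of_isCyclic h.cyc h.max.pgrp h.ne' (H86.St_le_Nor _ _ _) (h.nd hM)).2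

theorem St_le : St ⊤ D b ≤ St ⊤ Z (eS M (Cen Z) c) := fun x hx => by
  haveI := charP hM
  have h1 := H86.Nor_le_Nor_of_isCyclic h.cyc h.le hx.1.2
  exact ⟨⟨trivial, h1⟩, h.sub.cj_eq h.max.toPair trivial hx.1.2 hx.2 h1⟩

theorem exists_mul {t : G} (ht : t ∈ St ⊤ Z (eS M (Cen Z) c)) :
    ∃ a ∈ St ⊤ D b, ∃ x ∈ Cen Z, t = a * x := by
  haveI := charP hM
  obtain ⟨y, hy, x, hx, e⟩ := h.sub.exists_mul_of_ab h.max (H86.isBlk_eB h.blk) h.ab
    (h.sub.mor_of_mem_St ht)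
  exact ⟨y, hy, x, hx.2, e⟩

theorem relIndex_eq :
    (Cen Z).relIndex (St ⊤ Z (eS M (Cen Z) c)) = (Cen D).relIndex (St ⊤ D b) := by
  rw [H86.relIndex_eq_of_mul (h.St_le hM) fun t => h.exists_mul hM,
    ← Subgroup.inf_relIndex_right, h.inf_eq hM, Subgroup.inf_relIndex_right]

theorem nil : IsNilpotentBlock p M c := by
  haveI := charP hM
  haveI := H86.good hM G
  have h1 := h.sub.nsub h.max.toPair (h.DC.trans (H86.Cen_le_Nor Z))
  have h2 := (h1.pairOf h.DC inf_le_right le_top).isMaxPair (h.isDef hM)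
  rw [H86.isNilpotentBlock_sub_iff h.cblk, H86.isNil_iff_of_ab h2 (H86.isBlk_eS h.cblk) h.ab]
  exact fun x hx => ((h.inf_eq hM).le ⟨hx.1.1, ⟨trivial, hx.1.2⟩, hx.2⟩).1

theorem suppc {ξ : IrrCharacter (Cen Z)} (hξ : ξ ∈ c) (x : Cen Z) (hx : p ∣ orderOf x)
    (h0 : (ξ : Cen Z → ℂ) x ≠ 0) : Ov p Z (x : G) := by
  obtain ⟨k, hk⟩ := H34.exists_conj_mem_defect_of_ne_zero hM h.cblk (h.isDefc hM) hξ h0
  rw [← pPart_conj, Subgroup.mem_subgroupOf, ← pPart_coe] at hk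
  have h1 : Ov p Z ((k * x * k⁻¹ : Cen Z) : G) := h.low hk ((pPart_ne_one_iff p).2 (by
    rwa [Subgroup.orderOf_coe, orderOf_conj]))
  simpa [mul_assoc] using h1.conj (H86.Cen_le_Nor Z (inv_mem k.2))

theorem root {c' : Set (IrrCharacter (Cen Z))} (h' : IsInducedBlock M (Cen Z) c' B) :
    ∃ n : Nor Z, c' = cjc n '' c := by
  haveI := charP hM
  have h1 : PairOf p ⊤ (eB M B) Z (eS M (Cen Z) c') := ⟨H86.pair_of_isBrauerPair ⟨h.pgrp, h'.1⟩,
    (isInducedBlock_iff_br_eS hM h.pgrp (h.le.trans h.DC) le_rfl (H86.Cen_le_Nor Z) h'.1 h.blk).1 h'⟩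
  obtain ⟨x, -, hx⟩ := h1.exists_conj_sub h.max (H86.isBlk_eB h.blk)
  have h2 : cs x Z = Z := H80.eq_of_card_eq_of_le_isCyclic h.cyc hx.le h.le (H86.card_cs x Z)
  rw [h2] at hx
  let n : Nor Z := ⟨x, H86.mem_Nor_iff_cs.2 h2⟩
  have h3 : c = H86.trI (H86.csEquiv (n : G) (cs_Cen_of_Nor n)) '' c' := by
    refine H86.eS_inj h.cblk (H86.isPBlock_image_trI _ h'.1) ?_
    rw [H86.eS_image_trI]
    exact h.sub.unique hx h.max.toPair
  refine ⟨n, ?_⟩
  rw [h3, Set.image_congr fun ξ _ => trI_csEquiv n ξ, ← image_cjc_mul, inv_mul_cancel,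
    image_cjc_one]

variable (hl : blockRank p c = 1)
include hl

theorem nil_cyclic : Nat.card c = Nat.card D ∧
    (∀ ξ ∈ c, ∀ ξ' ∈ c, ∀ x, ¬ p ∣ orderOf x → (ξ : Cen Z → ℂ) x = (ξ' : Cen Z → ℂ) x) ∧
    ∃ τ, Loc (k := F M) ⊤ (eB M c) τ (Nat.card D) := by
  have e := Subgroup.subgroupOfEquivOfLe h.DC
  haveI := h.cyc
  rw [← Nat.card_congr e.toEquiv]
  refine H35C.nil_cyclic hM h.cblk (h.isDefc hM) (isCyclic_of_surjective e.symm e.symm.surjective)
    (fun h0 => h.ne' ?_) (h.nil hM) hl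
  rwa [← Subgroup.card_eq_one, Nat.card_congr e.toEquiv, Subgroup.card_eq_one] at h0

theorem le_rank : (Cen D).relIndex (St ⊤ D b) ≤ blockRank p B := by
  haveI := charP hM
  obtain ⟨-, -, τ, hτ⟩ := h.nil_cyclic hM hl
  have h1 := hτ.map (H86.emb (Cen Z).subtype) (H86.emb_injective (Cen Z).subtype_injective)
  have h2 : (⊤ : Subalgebra (F M) (F M)[Cen Z]).map (H86.emb (Cen Z).subtype) =
      H86.Fx (F M) (Cen Z) ⊥ := by
    ext x
    rw [mem_Fx_bot]
    exact ⟨fun ⟨y, _, e⟩ => e ▸ H86.supp_emb_subtype y, fun hx =>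
      (H86.exists_emb_subtype hx).imp fun y e => ⟨trivial, e⟩⟩
  rw [h2] at h1
  rw [← h.relIndex_eq hM]
  exact relIndex_le_blockRank hM h.blk (D := D) ⟨h1, h.le, h.ne, fun d => h.low,
    H86.isBlk_eS h.cblk, h.isDef hM, fun g => by simp [H86.mem_stab, eS],
    by rw [h.relIndex_eq hM]; exact h.nd hM⟩ (h.pairOf hM).br_mul

theorem existsUnique_fixed {n : Nor Z} (hn : cjc n '' c = c) (hn' : (n : G) ∉ Cen Z) :
    ∃! ξ, ξ ∈ c ∧ cjc n ξ = ξ := by
  classical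
  exact H35C.existsUnique_fixed hM h.cblk hl (fun ξ hξ => h.suppc hM hξ) (h.nil_cyclic hM hl).2.1
    hn hn'

theorem exists_fixed : ∃ ζ ∈ c, ∀ n : Nor Z, cjc n '' c = c → cjc n ζ = ζ := by
  by_cases h1 : ∃ n : Nor Z, cjc n '' c = c ∧ (n : G) ∉ Cen Z
  · obtain ⟨n, hn, hn'⟩ := h1
    obtain ⟨ζ, ⟨h2, h3⟩, h4⟩ := h.existsUnique_fixed hM hl hn hn'
    refine ⟨ζ, h2, fun m hm => h4 _ ⟨hm ▸ ⟨ζ, h2, rfl⟩, ?_⟩⟩
    haveI := h.cyc
    rw [← cjc_mul, show m * n = n * m * (m⁻¹ * n⁻¹ * m * n) by group, cjc_mul (n * m), cjc_mul n m, h3,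
      cjc_of_mem (comm_mem_Cen (Subgroup.isCyclic_of_le h.le) n m)]
  · obtain ⟨ζ, hζ⟩ := H33.block_nonempty h.cblk
    exact ⟨ζ, hζ, fun n hn => cjc_of_mem (by_contra fun h2 => h1 ⟨n, hn, h2⟩) ζ⟩

theorem cd {ζ : IrrCharacter (Cen Z)} (hζ : ζ ∈ c) (hf : ∀ n : Nor Z, cjc n '' c = c → cjc n ζ = ζ) :
    CD p M Z B c ((St ⊤ Z (eS M (Cen Z) c)).subgroupOf (Nor Z)) ζ
      ((Cen D).relIndex (St ⊤ D b)) := by
  have hT : ∀ n : Nor Z, n ∈ (St ⊤ Z (eS M (Cen Z) c)).subgroupOf (Nor Z) ↔ cjc n '' c = c :=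
    fun n => by rw [image_cjc_eq_iff h.cblk, Subgroup.mem_subgroupOf]; simp [H86.mem_stab]
  refine ⟨h.pgrp, h.ne, h.le.trans h.DC, h.ind hM, fun χ hχ g hg h0 => ?_, fun ξ hξ => h.suppc hM hξ,
    fun c' => h.root hM, fun ξ hξ => (h.nil_cyclic hM hl).2.1 ξ hξ ζ hζ, hT, hζ,
    fun n hn => hf n ((hT n).1 hn), fun n hn ξ hξ h1 h2 => by_contra fun h3 => ?_, ?_⟩
  · obtain ⟨k, hk⟩ := H34.exists_conj_mem_defect_of_ne_zero hM h.blk (h.isDefB hM) hχ h0
    rw [← pPart_conj] at hk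
    exact ⟨k, h.low hk ((pPart_ne_one_iff p).2 (by rwa [orderOf_conj]))⟩
  · exact h1 ((h.existsUnique_fixed hM hl ((hT n).1 hn) h3).unique ⟨hξ, h2⟩
      ⟨hζ, hf n ((hT n).1 hn)⟩)
  · have h1 : Cen Z ≤ St ⊤ Z (eS M (Cen Z) c) := by simpa using (h.pairOf hM).toPair.Cen_le_St
    rw [← h.relIndex_eq hM, Nat.card_congr (Subgroup.subgroupOfEquivOfLe
      (H86.St_le_Nor _ _ _)).toEquiv, ← Nat.card_congr (Subgroup.subgroupOfEquivOfLe h1).toEquiv,
      Subgroup.relIndex, Subgroup.card_mul_index]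

theorem nonempty_dade {ζ : IrrCharacter (Cen Z)} (hζ : ζ ∈ c)
    (hf : ∀ n : Nor Z, cjc n '' c = c → cjc n ζ = ζ) :
    Nonempty (Dade p Z B c ζ ((Cen D).relIndex (St ⊤ D b))) := by
  refine (h.cd hM hl hζ hf).nonempty_dade hM (h.defect_ne hM) ?_ (h.le_rank hM hl)
  have h1 : 1 < c.ncard := by
    rw [← Nat.card_coe_set_eq, (h.nil_cyclic hM hl).1]
    exact (Subgroup.one_lt_card_iff_ne_bot D).2 h.ne'
  exact Set.exists_ne_of_one_lt_ncard h1 ζ

theorem rank_eq' : blockRank p B = (Cen D).relIndex (St ⊤ D b) := by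
  obtain ⟨ζ, h1, h2⟩ := h.exists_fixed hM hl
  obtain ⟨X⟩ := h.nonempty_dade hM hl h1 h2
  exact X.rank

end LD

theorem rank_one_aux.{u} (hM : IsPModular p M) (n : ℕ) : ∀ (G : Type u) [Group G] [Finite G]
    (B : Set (IrrCharacter G)) (D : Subgroup G), Nat.card D = n → IsPBlock M B →
    IsDefectGroup p M B D → IsCyclic D → IsNilpotentBlock p M B → blockRank p B = 1 := by
  induction n using Nat.strong_induction_on with
  | _ n ih =>
    intro G _ _ B D hn hB hD hc hnil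
    classical
    haveI := charP hM
    haveI := H86.good hM G
    letI := Fintype.ofFinite G
    by_cases h1 : D = ⊥
    · exact blockRank_eq_one_of_defect_zero hM hB ((blockDefect_eq_zero_iff_bot hM hB hD).2 h1)
    obtain ⟨b, hm⟩ := ((H86.isDefectGroup_iff hB D).1 hD).exists_isMaxPair (H86.isBlk_eB hB)
    obtain ⟨Z, hZD, hZ⟩ := exists_card_eq_prime hm.pgrp h1
    obtain ⟨c, h⟩ := exists_LD hM hB hm hc hZD hZ
    have hcen : Z.subgroupOf (Cen Z) ≤ Subgroup.center (Cen Z) := fun x hx =>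
      Subgroup.mem_center_iff.2 fun y => Subtype.ext (H86.mem_Cen.1 y.2 x hx).symm
    haveI : (Z.subgroupOf (Cen Z)).Normal := ⟨fun x hx y => by
      rwa [Subgroup.mem_center_iff.1 (hcen hx) y, mul_inv_cancel_right]⟩
    have hZp := H86.isPGroup_subgroupOf (K := Cen Z) h.pgrp
    have hq := H86.pQuot_of_le_center (p := p) hcen
    have e := Subgroup.subgroupOfEquivOfLe h.DC
    haveI := isCyclic_of_surjective e.symm e.symm.surjective
    have hl : blockRank p c = 1 := by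
      rw [← blockRank_quotSet hM h.cblk hZp hq]
      refine ih _ ?_ _ _ _ rfl (H86.isPBlock_quotSet hM h.cblk hZp hq)
        (H86.isDefectGroup_quotSet hM h.cblk hZp hq (h.isDefc hM))
        (isCyclic_of_surjective _ ((QuotientGroup.mk' _).subgroupMap_surjective _))
        (H86.isNilpotentBlock_quotSet hM h.cblk hZp hq (h.nil hM))
      rw [← hn, ← Nat.card_congr e.toEquiv, defect_card hM h.cblk (h.isDefc hM),
        defect_card hM (H86.isPBlock_quotSet hM h.cblk hZp hq)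
          (H86.isDefectGroup_quotSet hM h.cblk hZp hq (h.isDefc hM)),
        pow_defect_quotSet hM h.cblk hZp hq,
        Nat.card_congr (Subgroup.subgroupOfEquivOfLe (h.le.trans h.DC)).toEquiv, hZ]
      exact lt_mul_left (pow_pos hp.out.pos _) hp.out.one_lt
    rw [h.rank_eq' hM hl, Subgroup.relIndex_eq_one]
    exact (H86.isNil_iff_of_ab hm (H86.isBlk_eB hB) h.ab).1 ((H86.isNilpotentBlock_iff hB).1 hnil)

theorem rank_one_of_nil (hM : IsPModular p M) (hB : IsPBlock M B) (hD : IsDefectGroup p M B D)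
    (hc : IsCyclic D) (hnil : IsNilpotentBlock p M B) : blockRank p B = 1 :=
  rank_one_aux hM _ G B D rfl hB hD hc hnil

theorem LD.rank_one {b : (F M)[G]} (h : LD p M B D Z c b) (hM : IsPModular p M) :
    blockRank p c = 1 := by
  classical
  have e := Subgroup.subgroupOfEquivOfLe h.DC
  haveI := h.cyc
  exact rank_one_of_nil hM h.cblk (h.isDefc hM) (isCyclic_of_surjective e.symm e.symm.surjective)
    (h.nil hM)

end H35C
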